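import Groth.Agent.LimLib.Eventual
import Mathlib

/-!
# Points of a Noetherian limit are cut out at a finite stage
-/

set_option autoImplicit false
set_option backward.isDefEq.respectTransparency false
universe u
open CategoryTheory Limits AlgebraicGeometry TopologicalSpace

namespace Groth.Agent.CycLimit

/-- `g` cuts out the point `x`. -/
def Cuts {X Y : Scheme.{u}} (g : X ⟶ Y) (x : X) : Prop :=
  (∀ y, g y = g x → x ⤳ y) ∧
    Ideal.map (g.stalkMap x).hom (IsLocalRing.maximalIdeal (Y.presheaf.stalk (g x))) =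
        IsLocalRing.maximalIdeal (X.presheaf.stalk x)

lemma map_maximalIdeal_le {X Y : Scheme.{u}} (g : X ⟶ Y) (z : X) :
    Ideal.map (g.stalkMap z).hom (IsLocalRing.maximalIdeal (Y.presheaf.stalk (g z))) ≤
      IsLocalRing.maximalIdeal (X.presheaf.stalk z) :=
  Ideal.map_le_iff_le_comap.mpr fun a ha => map_nonunit (g.stalkMap z).hom a ha

lemma cuts_of_comp {X Y Z : Scheme.{u}} (h : X ⟶ Z) (t : Z ⟶ Y) {g : X ⟶ Y} (e : g = h ≫ t) {x : X}
    (hg : Cuts g x) : Cuts h x := by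
  subst e
  refine ⟨fun y hy => hg.1 y (by rw [Scheme.Hom.comp_apply, Scheme.Hom.comp_apply, hy]), ?_⟩
  refine le_antisymm (map_maximalIdeal_le h x) ?_
  rw [← hg.2, Scheme.Hom.stalkMap_comp, CommRingCat.hom_comp, ← Ideal.map_map]
  exact Ideal.map_mono (map_maximalIdeal_le t (h x))

/-- Generators of a prime coming from the target cut out the point. -/
theorem cuts_of_gens {X Y : Scheme.{u}} (g : X ⟶ Y) (V : Y.Opens) (U : X.Opens) (hU : IsAffineOpen U)
    (e : U = g ⁻¹ᵁ V) (x : X) (hx : x ∈ U) (s : Set Γ(X, U))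
    (hs : Ideal.span s = (hU.primeIdealOf ⟨x, hx⟩).asIdeal)
    (hb : ∀ a ∈ s, ∃ b : Γ(Y, V), g.appLE V U e.le b = a) : Cuts g x := by
  subst e
  have hbo : ∀ (b : Γ(Y, V)) (y : X) (hy : y ∈ g ⁻¹ᵁ V),
      g.appLE V (g ⁻¹ᵁ V) le_rfl b ∉ (hU.primeIdealOf ⟨y, hy⟩).asIdeal ↔ g y ∈ Y.basicOpen b := by
    intro b y hy
    have h1 : (hU.primeIdealOf ⟨y, hy⟩ ∈ PrimeSpectrum.basicOpen (g.appLE V (g ⁻¹ᵁ V) le_rfl b)) ↔
        y ∈ X.basicOpen (g.appLE V (g ⁻¹ᵁ V) le_rfl b) := by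
      rw [← hU.fromSpec_preimage_basicOpen, Scheme.Hom.mem_preimage, hU.fromSpec_primeIdealOf]
    refine h1.trans ?_
    rw [← Scheme.Hom.app_eq_appLE, ← Scheme.preimage_basicOpen]
    rfl
  have hmem : ∀ a ∈ s, a ∈ (hU.primeIdealOf ⟨x, hx⟩).asIdeal := fun a ha => hs ▸ Ideal.subset_span ha
  refine ⟨fun y hy => ?_, le_antisymm (map_maximalIdeal_le g x) ?_⟩
  · have hyU : y ∈ g ⁻¹ᵁ V := show g y ∈ V from hy ▸ hx
    have hle : (hU.primeIdealOf ⟨x, hx⟩).asIdeal ≤ (hU.primeIdealOf ⟨y, hyU⟩).asIdeal := by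
      rw [← hs, Ideal.span_le]
      intro a ha
      obtain ⟨b, rfl⟩ := hb a ha
      by_contra hya
      exact (hbo b x hx).mpr (hy ▸ (hbo b y hyU).mp hya) (hmem _ ha)
    have := ((PrimeSpectrum.le_iff_specializes _ _).mp hle).map hU.fromSpec.continuous
    rwa [hU.fromSpec_primeIdealOf, hU.fromSpec_primeIdealOf] at this
  · let := TopCat.Presheaf.algebra_section_stalk X.presheaf ⟨x, hx⟩
    have := hU.isLocalization_stalk ⟨x, hx⟩
    rw [← IsLocalization.AtPrime.map_eq_maximalIdeal (hU.primeIdealOf ⟨x, hx⟩).asIdeal (X.presheaf.stalk x),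
      ← hs, Ideal.map_span, Ideal.span_le]
    rintro _ ⟨a, ha, rfl⟩
    obtain ⟨b, rfl⟩ := hb a ha
    have hna : g x ∉ Y.basicOpen b := fun h => (hbo b x hx).mpr h (hmem _ ha)
    rw [Scheme.mem_basicOpen _ _ _ (show g x ∈ V from hx)] at hna
    have hgerm : (g.stalkMap x).hom (Y.presheaf.germ V _ hx b) =
        algebraMap Γ(X, g ⁻¹ᵁ V) (X.presheaf.stalk x) (g.appLE V (g ⁻¹ᵁ V) le_rfl b) := by
      rw [← Scheme.Hom.app_eq_appLE]
      exact Scheme.Hom.germ_stalkMap_apply g V x hx b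
    rw [SetLike.mem_coe, ← hgerm]
    exact Ideal.mem_map_of_mem _ hna

variable {I : Type u} [SmallCategory I] {D : I ⥤ Scheme.{u}} {c : Cone D}
variable [IsCofiltered I] [∀ {i j : I} (f : i ⟶ j), IsAffineHom (D.map f)] (hc : IsLimit c)
include hc

theorem exists_cuts (hN : IsLocallyNoetherian c.pt) (x : c.pt) : ∃ j, Cuts (c.π.app j) x := by
  classical
  obtain ⟨i⟩ := (IsCofiltered.nonempty : Nonempty I)
  obtain ⟨_, ⟨W : (D.obj i).Opens, hW, rfl⟩, hxW, -⟩ :=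
    (D.obj i).isBasis_affineOpens.exists_subset_of_mem_open (Set.mem_univ (c.π.app i x)) isOpen_univ
  have := isAffineHom_π_app _ _ hc i
  let U : c.pt.Opens := c.π.app i ⁻¹ᵁ W
  have hU : IsAffineOpen U := hW.preimage (c.π.app i)
  have : IsNoetherianRing Γ(c.pt, U) := hN.component_noetherian ⟨_, hU⟩
  obtain ⟨s, hs⟩ := (IsNoetherian.noetherian (hU.primeIdealOf ⟨x, hxW⟩).asIdeal)
  have stage : ∀ t : Finset Γ(c.pt, U), ∃ j : Over i, ∀ a ∈ t, ∃ b, LimLib.πs c W j b = a := by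
    intro t
    induction t using Finset.induction_on with
    | empty => exact ⟨Over.mk (𝟙 i), by simp⟩
    | @insert a t _ ih =>
      obtain ⟨j₁, h₁⟩ := ih
      obtain ⟨j₂, b, hb⟩ := LimLib.exists_πs_eq hc hW a
      obtain ⟨m, f₁, f₂, hm⟩ := IsCofiltered.cospan j₁.hom j₂.hom
      let k : Over i := Over.mk (f₁ ≫ j₁.hom)
      let g₁ : k ⟶ j₁ := Over.homMk f₁
      let g₂ : k ⟶ j₂ := Over.homMk f₂ hm.symm
      refine ⟨k, fun a' ha' => ?_⟩
      rcases Finset.mem_insert.mp ha' with rfl | ha'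
      · exact ⟨LimLib.rs W g₂ b, by rw [LimLib.πs_rs_apply, hb]⟩
      · obtain ⟨b', hb'⟩ := h₁ a' ha'
        exact ⟨LimLib.rs W g₁ b', by rw [LimLib.πs_rs_apply, hb']⟩
  obtain ⟨j, hj⟩ := stage s
  exact ⟨j.left, cuts_of_gens (c.π.app j.left) (D.map j.hom ⁻¹ᵁ W) U hU
    (le_antisymm (LimLib.π_preimage_le W j) (by rw [← Scheme.Hom.comp_preimage, c.w])) x hxW (s : Set Γ(c.pt, U)) hs hj⟩

end Groth.Agent.CycLimit
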